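import Groth.Prelude.Def_GalTw2
import Mathlib.AlgebraicGeometry.Sites.Fpqc
import Mathlib.FieldTheory.PrimitiveElement
import Mathlib.FieldTheory.Galois.Basic
import Mathlib.RingTheory.LocalRing.Basic

/-! Galois descent of morphisms of schemes along a finite Galois extension. -/

universe u

open CategoryTheory CategoryTheory.Limits AlgebraicGeometry Polynomial

namespace GrothLib.GalForms21

variable {k : Type u} [Field k] (K : Type u) [Field K] [Algebra k K]

instance affine_pt : IsAffineHom (SGA7.pt (K := k) K).hom := by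
  dsimp [SGA7.pt]; infer_instance

theorem appTop_bridge (f : K →+* K) :
    CommRingCat.ofHom f ≫ (Scheme.ΓSpecIso (CommRingCat.of K)).inv =
      (Scheme.ΓSpecIso (CommRingCat.of K)).inv ≫ (Spec.map (CommRingCat.ofHom f)).appTop :=
  Scheme.ΓSpecIso_inv_naturality _

/-- Two morphisms agreeing wherever the two coordinates differ by a Galois automorphism are equal. -/
theorem hom_ext_of_galois [FiniteDimensional k K] [IsGalois k K] {Z T : Scheme.{u}}
    (a b : Z ⟶ Spec (CommRingCat.of K)) (h : a ≫ (SGA7.pt (K := k) K).hom = b ≫ (SGA7.pt (K := k) K).hom)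
    (F G : Z ⟶ T)
    (hFG : ∀ (U : Z.Opens) (σ : K ≃ₐ[k] K), U.ι ≫ b = U.ι ≫ a ≫ GalTw.specMap K σ → U.ι ≫ F = U.ι ≫ G) :
    F = G := by
  classical
  let α : K →+* Γ(Z, ⊤) := ((Scheme.ΓSpecIso (CommRingCat.of K)).inv ≫ a.appTop).hom
  let β : K →+* Γ(Z, ⊤) := ((Scheme.ΓSpecIso (CommRingCat.of K)).inv ≫ b.appTop).hom
  have hk : ∀ c : k, α (algebraMap k K c) = β (algebraMap k K c) := fun c => by
    have h1 := congrArg (fun g => ((Scheme.ΓSpecIso (CommRingCat.of k)).inv ≫ g)) (congrArg Scheme.Hom.appTop h)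
    simp only [Scheme.Hom.comp_appTop] at h1
    have hp : (SGA7.pt (K := k) K).hom = Spec.map (CommRingCat.ofHom (algebraMap k K)) := rfl
    rw [hp, ← Category.assoc, ← Category.assoc, ← Scheme.ΓSpecIso_inv_naturality, Category.assoc,
      Category.assoc] at h1
    exact congrArg (fun g => g c) (congrArg CommRingCat.Hom.hom h1)
  let pb := Field.powerBasisOfFiniteOfSeparable k K
  let R : Finset K := ((minpoly k pb.gen).map (algebraMap k K)).roots.toFinset
  have hsep : ((minpoly k pb.gen).map (algebraMap k K)).Separable :=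
    Polynomial.Separable.map (IsGalois.separable k pb.gen)
  have hprod : ((minpoly k pb.gen).map (algebraMap k K)) = ∏ r ∈ R, (X - C r) := by
    rw [Finset.prod_eq_multiset_prod, Multiset.toFinset_val, (nodup_roots hsep).dedup]
    exact (IsGalois.splits k pb.gen).eq_prod_roots_of_monic
      ((minpoly.monic (IsIntegral.of_finite k pb.gen)).map _)
  have hroot : ∀ r ∈ R, ∃ σ : K ≃ₐ[k] K, σ pb.gen = r := fun r hr => by
    suffices h : aeval r (minpoly k pb.gen) = 0 by
      obtain ⟨σ, hσ⟩ := minpoly.exists_algEquiv_of_root' (IsAlgebraic.of_finite k pb.gen) h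
      exact ⟨σ, hσ⟩
    rw [Multiset.mem_toFinset, mem_roots (map_monic_ne_zero (minpoly.monic (IsIntegral.of_finite k pb.gen))),
      IsRoot, eval_map] at hr
    exact hr
  have hzero : ∏ r ∈ R, (β pb.gen - α r) = 0 := by
    have h1 : eval₂ α (β pb.gen) ((minpoly k pb.gen).map (algebraMap k K)) = 0 := by
      rw [eval₂_map, RingHom.ext (f := α.comp (algebraMap k K)) (g := β.comp (algebraMap k K)) hk,
        ← hom_eval₂, ← aeval_def, minpoly.aeval, map_zero]
    rw [hprod, eval₂_finset_prod] at h1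
    simpa using h1
  let U : R → Z.Opens := fun r => Z.basicOpen (∏ s ∈ R.erase r, (β pb.gen - α s))
  have hU : TopologicalSpace.IsOpenCover U := by
    refine top_le_iff.mp fun z _ => ?_
    rw [TopologicalSpace.Opens.mem_iSup]
    let g := (Z.presheaf.germ ⊤ z (TopologicalSpace.Opens.mem_top z)).hom
    have h0 : ∏ r ∈ R, g (β pb.gen - α r) = 0 := by rw [← map_prod, hzero, map_zero]
    obtain ⟨r, hr, hru⟩ : ∃ r ∈ R, ¬ IsUnit (g (β pb.gen - α r)) := by
      by_contra! hall
      exact not_isUnit_zero (h0 ▸ (IsUnit.prod_iff).2 hall)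
    refine ⟨⟨r, hr⟩, (Z.mem_basicOpen _ z (TopologicalSpace.Opens.mem_top z)).2 ?_⟩
    rw [map_prod]
    refine IsUnit.prod_iff.2 fun s hs => by_contra fun hsu => ?_
    have hne : s - r ≠ 0 := sub_ne_zero.2 (Finset.ne_of_mem_erase hs)
    have hu : IsUnit (g (β pb.gen - α r) + -(g (β pb.gen - α s))) := by
      rw [← map_neg, ← map_add, show β pb.gen - α r + -(β pb.gen - α s) = α (s - r) by rw [map_sub]; abel]
      exact (isUnit_iff_ne_zero.2 hne).map (g.comp α)
    rcases IsLocalRing.isUnit_or_isUnit_of_isUnit_add hu with h' | h'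
    · exact hru h'
    · exact hsu (IsUnit.neg_iff _ |>.1 h')
  refine Scheme.Cover.hom_ext (Z.openCoverOfIsOpenCover U hU) _ _ fun (r : R) => ?_
  obtain ⟨σ, hσ⟩ := hroot r r.2
  refine hFG (U r) σ (ext_of_isAffine ?_)
  let w := (U r).ι.appTop.hom
  have hu : IsUnit (w (∏ s ∈ R.erase r, (β pb.gen - α s))) := by
    have := RingedSpace.isUnit_res_basicOpen Z.toRingedSpace (∏ s ∈ R.erase r, (β pb.gen - α s))
    have h2 := this.map ((U r).topIso.inv).hom
    have h3 : w (∏ s ∈ R.erase (r : K), (β pb.gen - α s)) = (U r).topIso.inv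
        ((Z.presheaf.map (homOfLE le_top).op) (∏ s ∈ R.erase (r : K), (β pb.gen - α s))) := by
      simp only [w, Scheme.Opens.ι_appTop, Scheme.Opens.topIso_inv]
      change _ = (Z.presheaf.map _ ≫ Z.presheaf.map _).hom _
      exact congrArg (fun g => CommRingCat.Hom.hom g _) (Z.presheaf.map_comp _ _)
    rw [h3]
    exact h2
  have heq : w (β pb.gen) = w (α (σ pb.gen)) := by
    have h1 : w (β pb.gen - α r) * w (∏ s ∈ R.erase r, (β pb.gen - α s)) = 0 := by
      rw [← map_mul, Finset.mul_prod_erase R (fun s => β pb.gen - α s) r.2, hzero, map_zero]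
    rw [← sub_eq_zero, ← map_sub, hσ]
    exact (hu.mul_left_eq_zero).1 h1
  letI : Algebra k Γ(((U r) : Scheme.{u}), ⊤) := ((w.comp α).comp (algebraMap k K)).toAlgebra
  let A₁ : K →ₐ[k] Γ(((U r) : Scheme.{u}), ⊤) := ⟨w.comp β, fun c => congrArg w (hk c).symm⟩
  let A₂ : K →ₐ[k] Γ(((U r) : Scheme.{u}), ⊤) :=
    ⟨(w.comp α).comp (σ : K →+* K), fun c => congrArg (fun x => w (α x)) (σ.commutes c)⟩
  have hA : A₁ = A₂ := pb.algHom_ext heq
  rw [← cancel_epi (Scheme.ΓSpecIso (CommRingCat.of K)).inv]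
  simp only [Scheme.Hom.comp_appTop]
  rw [Category.assoc, ← reassoc_of% (appTop_bridge K (σ : K →+* K))]
  ext x
  exact DFunLike.congr_fun hA x

variable {K} {Y T : Over (Spec (CommRingCat.of k))}

instance flat_pt : Flat (SGA7.pt (K := k) K).hom := by
  show Flat (Spec.map (CommRingCat.ofHom (algebraMap k K)))
  rw [HasRingHomProperty.Spec_iff (P := @Flat)]
  exact RingHom.flat_algebraMap_iff.mpr inferInstance

instance surjective_pt : Surjective (SGA7.pt (K := k) K).hom :=
  ⟨fun p => ⟨(⊥ : PrimeSpectrum K), (inferInstance : Subsingleton (PrimeSpectrum k)).elim _ _⟩⟩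

theorem effectiveEpi_fst : EffectiveEpi (pullback.fst Y.hom (SGA7.pt (K := k) K).hom) := inferInstance

/-- A Galois invariant morphism out of `Y_K` factors uniquely through `Y_K ⟶ Y`. -/
theorem exists_descend_left [FiniteDimensional k K] [IsGalois k K] {W : Scheme.{u}}
    (g : (GalTw.bcK K Y).left ⟶ W) (hg : ∀ σ : K ≃ₐ[k] K, GalTw.galMap K σ Y ≫ g = g) :
    ∃ e : Y.left ⟶ W, pullback.fst Y.hom (SGA7.pt (K := k) K).hom ≫ e = g := by
  have := effectiveEpi_fst (Y := Y) (K := K)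
  refine ⟨EffectiveEpi.desc (pullback.fst _ _) g fun {Z} g₁ g₂ h => ?_, EffectiveEpi.fac _ _ _⟩
  refine hom_ext_of_galois (k := k) K (g₁ ≫ pullback.snd _ _) (g₂ ≫ pullback.snd _ _) ?_ _ _ fun U σ hσ => ?_
  · simp only [Category.assoc, ← pullback.condition]
    exact (reassoc_of% h) _
  · have h2 : U.ι ≫ g₂ = (U.ι ≫ g₁) ≫ GalTw.galMap K σ Y := by
      refine pullback.hom_ext ?_ ?_
      · simp only [Category.assoc, GalTw.galMap_fst, h]
      · simp only [Category.assoc, GalTw.galMap_snd]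
        exact hσ
    calc U.ι ≫ g₁ ≫ g = (U.ι ≫ g₁) ≫ GalTw.galMap K σ Y ≫ g := by rw [hg, Category.assoc]
      _ = U.ι ≫ g₂ ≫ g := by rw [← Category.assoc _ (GalTw.galMap K σ Y), ← h2, Category.assoc]

theorem bc_map_left (e : Y ⟶ T) :
    ((Over.pullback (SGA7.pt (K := k) K).hom).map e).left ≫ pullback.fst T.hom _ =
      pullback.fst Y.hom _ ≫ e.left :=
  pullback.lift_fst _ _ _

theorem faithful_bc {e e' : Y ⟶ T}
    (h : (Over.pullback (SGA7.pt (K := k) K).hom).map e = (Over.pullback (SGA7.pt (K := k) K).hom).map e') :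
    e = e' := by
  have := effectiveEpi_fst (Y := Y) (K := K)
  ext1
  rw [← cancel_epi (pullback.fst Y.hom (SGA7.pt (K := k) K).hom), ← bc_map_left, ← bc_map_left, h]

/-- Galois descent of morphisms: an equivariant `Y_K ⟶ T_K` comes from a unique `Y ⟶ T`. -/
theorem exists_descend [FiniteDimensional k K] [IsGalois k K] (f : GalTw.bcK K Y ⟶ GalTw.bcK K T)
    (hf : ∀ σ : K ≃ₐ[k] K, GalTw.twHom σ f = f) :
    ∃ e : Y ⟶ T, (Over.pullback (SGA7.pt (K := k) K).hom).map e = f := by
  have hcomm : ∀ σ : K ≃ₐ[k] K, GalTw.galMap K σ Y ≫ f.left = f.left ≫ GalTw.galMap K σ T := fun σ => by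
    have h := congrArg (fun g => g ≫ GalTw.galMap K σ T) (congrArg CommaMorphism.left (hf σ))
    simpa using h
  obtain ⟨e, he⟩ := exists_descend_left (f.left ≫ pullback.fst T.hom _) fun σ => by
    rw [reassoc_of% (hcomm σ), GalTw.galMap_fst]
  have := effectiveEpi_fst (Y := Y) (K := K)
  have hw : f.left ≫ pullback.snd T.hom (SGA7.pt (K := k) K).hom = pullback.snd Y.hom _ := Over.w f
  refine ⟨Over.homMk e ?_, ?_⟩
  · rw [← cancel_epi (pullback.fst Y.hom (SGA7.pt (K := k) K).hom), reassoc_of% he, pullback.condition,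
      reassoc_of% hw, pullback.condition]
  · ext1
    refine pullback.hom_ext ?_ ?_
    · rw [bc_map_left]; exact he
    · exact (Over.w ((Over.pullback (SGA7.pt (K := k) K).hom).map _)).trans hw.symm

theorem twHom_bc_map (σ : K ≃ₐ[k] K) (e : Y ⟶ T) :
    GalTw.twHom σ ((Over.pullback (SGA7.pt (K := k) K).hom).map e) =
      (Over.pullback (SGA7.pt (K := k) K).hom).map e := by
  ext1
  refine pullback.hom_ext ?_ ?_
  · simp only [GalTw.twHom_left, Category.assoc, GalTw.galMap_fst, bc_map_left]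
    rw [GalTw.galMap_fst_assoc]
  · exact (Over.w (GalTw.twHom σ ((Over.pullback (SGA7.pt (K := k) K).hom).map e))).trans
      (Over.w ((Over.pullback (SGA7.pt (K := k) K).hom).map e)).symm

/-- Galois descent of isomorphisms. -/
theorem exists_descend_iso [FiniteDimensional k K] [IsGalois k K] (f : GalTw.bcK K Y ≅ GalTw.bcK K T)
    (hf : ∀ σ : K ≃ₐ[k] K, GalTw.twIso σ f = f) :
    ∃ e : Y ≅ T, (Over.pullback (SGA7.pt (K := k) K).hom).map e.hom = f.hom := by
  obtain ⟨e, he⟩ := exists_descend f.hom fun σ => congrArg Iso.hom (hf σ)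
  obtain ⟨e', he'⟩ := exists_descend f.inv fun σ => congrArg Iso.inv (hf σ)
  exact ⟨⟨e, e', faithful_bc (K := K) (by rw [Functor.map_comp, he, he', CategoryTheory.Functor.map_id]; exact f.hom_inv_id),
    faithful_bc (K := K) (by rw [Functor.map_comp, he, he', CategoryTheory.Functor.map_id]; exact f.inv_hom_id)⟩, he⟩

/-- The comparison of forms: isomorphisms correspond to trivialisations of the cocycle difference. -/
theorem exists_iso_of_cohomologous [FiniteDimensional k K] [IsGalois k K]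
    {X : Over (Spec (CommRingCat.of k))} (φ : GalTw.bcK K Y ≅ GalTw.bcK K X)
    (φ' : GalTw.bcK K T ≅ GalTw.bcK K X) (c : Aut (GalTw.bcK K X))
    (hc : ∀ σ : K ≃ₐ[k] K, GalTw.cocycle φ σ = c⁻¹ * GalTw.cocycle φ' σ * σ • c) :
    ∃ e : Y ≅ T, (Over.pullback (SGA7.pt (K := k) K).hom).map e.hom = φ.hom ≫ c.hom ≫ φ'.inv := by
  obtain ⟨e, he⟩ := exists_descend_iso (φ ≪≫ c ≪≫ φ'.symm) fun σ => by
    have h : (GalTw.twIso σ φ).symm ≪≫ φ =
        GalTw.twIso σ c ≪≫ ((GalTw.twIso σ φ').symm ≪≫ φ') ≪≫ c.symm := hc σ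
    refine Iso.ext ?_
    show GalTw.twHom σ (φ.hom ≫ c.hom ≫ φ'.inv) = φ.hom ≫ c.hom ≫ φ'.inv
    rw [GalTw.twHom_comp, GalTw.twHom_comp]
    have h2 := congrArg (fun i => (GalTw.twIso σ φ).hom ≫ i ≫ c.hom ≫ φ'.inv) (congrArg Iso.hom h)
    simp only [Iso.trans_hom, Iso.symm_hom, Category.assoc, Iso.hom_inv_id_assoc, Iso.inv_hom_id_assoc,
      Iso.hom_inv_id, Category.comp_id] at h2
    try erw [Iso.inv_hom_id_assoc, Iso.hom_inv_id, Category.comp_id] at h2
    exact h2.symm
  exact ⟨e, he⟩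

theorem cocycle_eq_of_iso {X : Over (Spec (CommRingCat.of k))} (φ : GalTw.bcK K Y ≅ GalTw.bcK K X)
    (φ' : GalTw.bcK K T ≅ GalTw.bcK K X) (e : Y ≅ T) (σ : K ≃ₐ[k] K) :
    let c : Aut (GalTw.bcK K X) :=
      φ.symm ≪≫ (Over.pullback (SGA7.pt (K := k) K).hom).mapIso e ≪≫ φ'
    GalTw.cocycle φ σ = c⁻¹ * GalTw.cocycle φ' σ * σ • c := by
  intro c
  show (GalTw.twIso σ φ).symm ≪≫ φ = GalTw.twIso σ c ≪≫ ((GalTw.twIso σ φ').symm ≪≫ φ') ≪≫ c.symm
  simp only [c, GalTw.twIso_trans]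
  have he : GalTw.twIso σ ((Over.pullback (SGA7.pt (K := k) K).hom).mapIso e) =
      (Over.pullback (SGA7.pt (K := k) K).hom).mapIso e := Iso.ext (twHom_bc_map σ e.hom)
  rw [he]
  ext1
  simp

end GrothLib.GalForms21
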